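import Cfsg.Agent.Lib.PresCert.Check

/-!
Coset table certificate (generated data).
-/

namespace CfsgLib.SpSixThree.Dih

open CfsgLib.PresCert

noncomputable def tab : BTree := (.leaf 0x800400030000400000100002800030000010000300005000001000020000200000100001800010000000000280005000001000010000000000000002000040000000000180003000001000008000000000000001000020000000000080001)

noncomputable def par : BTree := (.leaf 0x300000000000000020000000000100001000000000010000000000000000000000000000000000000)

noncomputable def fact : BTree := (.leaf 0x0)

/-- the certificate -/
noncomputable def cert : Cert where
  n := 6
  v := 0
  g := 2
  inv := [0, 1]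
  rels := [[0, 1, 0, 1, 0, 1], [0, 0], [1, 1]]
  subs := []
  tab := tab
  par := par
  fact := fact
  nfact := 0

/-- justifications -/
noncomputable def justs : List Cert.Just := []

end CfsgLib.SpSixThree.Dih
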